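import Groth.Agent.L22.ZeroScheme
import Groth.Agent.L22.SchemeDim
import Mathlib.AlgebraicGeometry.Morphisms.Smooth
import Mathlib.RingTheory.RingHom.StandardSmooth

/-!
# Smoothness of the zero scheme of a member of a linear system, chart by chart
-/

set_option autoImplicit false
set_option linter.style.haveILetI false
set_option backward.isDefEq.respectTransparency false
set_option backward.isDefEq.respectTransparency.types false

universe u

open CategoryTheory CategoryTheory.Limits AlgebraicGeometry TopologicalSpace Opposite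

noncomputable section

namespace Groth.L24.Bertini

open Groth.L18.Frame (rs ro rs_rs rs_self rs_smul ro_self IsFrame)
open Groth.L18.GenLoc (secOf)

variable {k : Type u} [Field k] {Y : Scheme.{u}} {L : Y.Modules}

theorem isInvertible_of_rank (hL : FlatMod.IsFinLocFreeOfRank 1 L) : PicF.IsInvertible L := fun x => by
  obtain ⟨U, hx, ⟨e⟩⟩ := hL x
  exact ⟨U, hx, ⟨e ≪≫ coproductUniqueIso (fun _ : Fin 1 => Coh.structureModule (↑U : Scheme.{u}))⟩⟩

theorem zeroScheme_ideal_frame (hL : PicF.IsInvertible L) (s : Coh.structureModule Y ⟶ L) (V : Y.affineOpens)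
    {e : Γ(L, V.1)} (he : IsFrame L V.1 e) {r : Γ(Y, V.1)} (hr : r • e = rs L (le_top : V.1 ≤ ⊤) (secOf s)) :
    (PicF2.zeroScheme L s).ideal V = Ideal.span {r} := by
  rw [Groth.L22.ZeroScheme.zeroScheme_ideal hL]
  ext a
  rw [Groth.L22.ZeroScheme.mem_idealOn_iff, Ideal.mem_span_singleton', ← hr]
  constructor
  · intro h
    obtain ⟨b, hb⟩ := h e
    refine ⟨b, he.inj le_rfl ?_⟩
    rw [rs_self, hb, smul_smul]
  · rintro ⟨b, rfl⟩ m
    obtain ⟨c, hc⟩ := he.exists_coeff le_rfl m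
    rw [rs_self] at hc
    refine ⟨b * c, ?_⟩
    rw [← hc, smul_smul, smul_smul]
    ring_nf

variable [Y.Over (Spec (CommRingCat.of k))]

theorem secOf_add (s t : Coh.structureModule Y ⟶ L) : secOf (s + t) = secOf s + secOf t := rfl

theorem secOf_sum {ι : Type*} (T : Finset ι) (s : ι → (Coh.structureModule Y ⟶ L)) :
    secOf (∑ i ∈ T, s i) = ∑ i ∈ T, secOf (s i) := by
  classical
  induction T using Finset.induction_on with
  | empty => simp [secOf]
  | @insert a T ha ih => rw [Finset.sum_insert ha, Finset.sum_insert ha, secOf_add, ih]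

theorem secOf_smulMod (s : Coh.structureModule Y ⟶ L) (c : k) :
    secOf (Formal.smulMod k (Coh.structureModule Y) c ≫ s) =
      (show Γ(Y, ⊤) from Coh.toGlobal (Y ↘ Spec (CommRingCat.of k)) c) • secOf s := by
  show s.app ⊤ _ = _
  refine (Groth.L18.GenLoc.app_eq s ⊤ _).trans ?_
  rw [rs_self]
  congr 1
  refine (mul_one (Y.presheaf.map (homOfLE (le_top : (⊤ : Y.Opens) ≤ ⊤)).op
    (Coh.toGlobal (Y ↘ Spec (CommRingCat.of k)) c))).trans ?_
  exact ro_self le_rfl _

/-- The coefficient of a member of the linear system in a frame. -/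
theorem coeff_member {m : ℕ} (s : Fin m → (Coh.structureModule Y ⟶ L)) (f : Coh.structureModule Y ⟶ L)
    {U : Y.Opens} {e : Γ(L, U)} {af : Γ(Y, U)} {a : Fin m → Γ(Y, U)}
    (hf : af • e = rs L (le_top : U ≤ ⊤) (secOf f))
    (ha : ∀ j, a j • e = rs L (le_top : U ≤ ⊤) (secOf (s j))) (c : Fin m → k) :
    (af + ∑ j, Groth.L22.SchemeDim.sectHom k Y U (c j) * a j) • e = rs L (le_top : U ≤ ⊤)
      (secOf (f + ∑ i : Fin m, Formal.smulMod k (Coh.structureModule Y) (c i) ≫ s i)) := by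
  rw [secOf_add, secOf_sum, add_smul, Finset.sum_smul, hf]
  simp only [mul_smul, ha, secOf_smulMod]
  simp only [rs, map_add, map_sum]
  congr 1
  exact Finset.sum_congr rfl fun j _ => (rs_smul L (le_top : U ≤ ⊤) _ _).symm

theorem fromSpec_comp {U : Y.Opens} (hU : IsAffineOpen U) :
    hU.fromSpec ≫ (Y ↘ Spec (CommRingCat.of k)) =
      Spec.map (CommRingCat.ofHom (Groth.L22.SchemeDim.sectHom k Y U)) := by
  rw [← IsAffineOpen.SpecMap_appLE_fromSpec (Y ↘ Spec (CommRingCat.of k)) (isAffineOpen_top _) hU le_top,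
    IsAffineOpen.fromSpec_top, Scheme.isoSpec_Spec_inv, ← Spec.map_comp]
  rfl

/-- Smoothness of the zero scheme from the charts. -/
theorem smooth_zeroScheme (hL : PicF.IsInvertible L) (F : Coh.structureModule Y ⟶ L) {ι : Type*}
    (U : ι → Y.affineOpens) (hU : ∀ y : Y, ∃ i, y ∈ (U i).1)
    (e : ∀ i, Γ(L, (U i).1)) (he : ∀ i, IsFrame L (U i).1 (e i)) (r : ∀ i, Γ(Y, (U i).1))
    (hr : ∀ i, r i • e i = rs L (le_top : (U i).1 ≤ ⊤) (secOf F))
    (hs : ∀ i, letI : Algebra k Γ(Y, (U i).1) := (Groth.L22.SchemeDim.sectHom k Y (U i).1).toAlgebra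
      Algebra.Smooth k (Γ(Y, (U i).1) ⧸ Ideal.span {r i})) :
    Smooth ((PicF2.zeroScheme L F).subschemeι ≫ (Y ↘ Spec (CommRingCat.of k))) := by
  set I := PicF2.zeroScheme L F
  refine IsZariskiLocalAtSource.of_iSup_eq_top (fun i => (I.subschemeCover.f (U i)).opensRange) ?_ fun i => ?_
  · refine Opens.ext (Set.eq_univ_of_forall fun z => ?_)
    obtain ⟨i, hi⟩ := hU (I.subschemeι z)
    refine Opens.mem_iSup.2 ⟨i, ?_⟩
    rw [Scheme.IdealSheafData.opensRange_subschemeCover_map]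
    exact hi
  · rw [← MorphismProperty.cancel_left_of_respectsIso @Smooth (I.subschemeCover.f (U i)).isoOpensRange.hom]
    simp only [← Category.assoc, Scheme.Hom.isoOpensRange_hom_ι]
    rw [Scheme.IdealSheafData.subschemeCover_map_subschemeι, Scheme.IdealSheafData.glueDataObjι_ι,
      Category.assoc, fromSpec_comp, ← Spec.map_comp, HasRingHomProperty.Spec_iff (P := @Smooth)]
    letI : Algebra k Γ(Y, (U i).1) := (Groth.L22.SchemeDim.sectHom k Y (U i).1).toAlgebra
    have e1 : I.ideal (U i) = Ideal.span {r i} := zeroScheme_ideal_frame hL F (U i) (he i) (hr i)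
    show ((Ideal.Quotient.mk (I.ideal (U i))).comp (algebraMap k Γ(Y, (U i).1))).Smooth
    rw [e1, ← Ideal.Quotient.algebraMap_eq, ← IsScalarTower.algebraMap_eq]
    exact RingHom.smooth_algebraMap.mpr (hs i)

/-- Frames on standard smooth charts. -/
theorem exists_smooth_frame (hL : PicF.IsInvertible L) [Smooth (Y ↘ Spec (CommRingCat.of k))] (y : Y) :
    ∃ (D : Y.affineOpens) (e : Γ(L, D.1)) (n : ℕ), y ∈ D.1 ∧ IsFrame L D.1 e ∧
      (letI : Algebra k Γ(Y, D.1) := (Groth.L22.SchemeDim.sectHom k Y D.1).toAlgebra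
       Algebra.IsStandardSmoothOfRelativeDimension n k Γ(Y, D.1)) := by
  obtain ⟨W, e, hyW, he⟩ := Groth.L18.Frame.exists_frame hL y
  obtain ⟨T, hT, V, hV, hyV, i, hsm⟩ := Smooth.exists_isStandardSmooth (Y ↘ Spec (CommRingCat.of k)) y
  obtain rfl : T = ⊤ := by
    ext z
    simp only [Opens.coe_top, Set.mem_univ, iff_true]
    obtain rfl : z = (Y ↘ Spec (CommRingCat.of k)) y := Subsingleton.elim (α := PrimeSpectrum k) _ _
    exact i hyV
  letI algV : Algebra k Γ(Y, V) := (Groth.L22.SchemeDim.sectHom k Y V).toAlgebra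
  haveI : Algebra.IsStandardSmooth k Γ(Y, V) := RingHom.isStandardSmooth_respectsIso.2 _
    (Scheme.ΓSpecIso (CommRingCat.of k)).symm.commRingCatIsoToRingEquiv hsm
  obtain ⟨g, hg, hyg⟩ := hV.exists_basicOpen_le (V := W) ⟨y, hyW⟩ hyV
  let D : Y.affineOpens := ⟨Y.basicOpen g, hV.basicOpen g⟩
  letI algD : Algebra k Γ(Y, D.1) := (Groth.L22.SchemeDim.sectHom k Y D.1).toAlgebra
  haveI := hV.isLocalization_basicOpen g
  haveI : IsScalarTower k Γ(Y, V) Γ(Y, D.1) := IsScalarTower.of_algebraMap_eq fun c => by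
    show (Y.presheaf.map (homOfLE le_top).op).hom _ =
      (Y.presheaf.map (homOfLE (Y.basicOpen_le g)).op).hom ((Y.presheaf.map (homOfLE le_top).op).hom _)
    rw [← CommRingCat.comp_apply, ← Functor.map_comp]
    rfl
  haveI : Algebra.IsStandardSmooth Γ(Y, V) Γ(Y, D.1) := Algebra.IsStandardSmooth.localization_away g
  haveI : Algebra.IsStandardSmooth k Γ(Y, D.1) := Algebra.IsStandardSmooth.trans k Γ(Y, V) Γ(Y, D.1)
  obtain ⟨_, _, _, _, ⟨P⟩⟩ := Algebra.IsStandardSmooth.out (R := k) (S := Γ(Y, D.1))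
  exact ⟨D, rs L hg e, P.dimension, hyg, he.mono hg, ⟨_, _, _, inferInstance, P, rfl⟩⟩

theorem mem_sq_of_mul_mem {A : Type u} [CommRing A] {q : Ideal A} [hq : q.IsMaximal] {s x : A} (hs : s ∉ q)
    (h : s * x ∈ q ^ 2) : x ∈ q ^ 2 := by
  obtain ⟨t, u, hu, htu⟩ := hq.exists_inv hs
  have h1 : u ^ 2 ∈ q ^ 2 := Ideal.pow_mem_pow hu 2
  have e : x = u ^ 2 * x + (2 * t - t * t * s) * (s * x) := by
    linear_combination (t * s * x - x - u * x) * htu
  rw [e]
  exact add_mem (Ideal.mul_mem_right _ _ h1) (Ideal.mul_mem_left _ _ h)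

theorem bijective_germ {U : Y.Opens} {e : Γ(L, U)} (he : IsFrame L U e) {x : Y} (hi : x ∈ U) :
    Function.Injective (LinearMap.toSpanSingleton (Y.presheaf.stalk x) (L.presheaf.stalk x)
      (L.presheaf.germ U x hi e)) ∧ Function.Surjective (LinearMap.toSpanSingleton (Y.presheaf.stalk x)
      (L.presheaf.stalk x) (L.presheaf.germ U x hi e)) := by
  refine ⟨(injective_iff_map_eq_zero _).2 fun r hr => ?_, fun v => ?_⟩
  · obtain ⟨V, hV, a, rfl⟩ := TopCat.Presheaf.exists_germ_eq (F := Y.presheaf) (x := x) r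
    have hW : x ∈ V ⊓ U := ⟨hV, hi⟩
    have h1 : L.presheaf.germ (V ⊓ U) x hW
        (ro (inf_le_left : V ⊓ U ≤ V) a • rs L (inf_le_right : V ⊓ U ≤ U) e) =
        L.presheaf.germ (V ⊓ U) x hW 0 := by
      rw [map_zero, Groth.L20.ModStalk.germ_smul, Groth.L20.ModStalk.germ_rs]
      exact (congrArg (· • _) (TopCat.Presheaf.germ_res_apply Y.presheaf (homOfLE inf_le_left) x hW a)).trans hr
    obtain ⟨W', hxW', i₁, i₂, h2⟩ := TopCat.Presheaf.germ_eq L.presheaf x hW hW _ _ h1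
    have h3 : rs L i₁.le (ro inf_le_left a • rs L inf_le_right e) = 0 := h2.trans (map_zero _)
    rw [rs_smul, Groth.L18.Frame.ro_ro, rs_rs] at h3
    have h4 : ro (i₁.le.trans inf_le_left) a = 0 :=
      he.inj (i₁.le.trans inf_le_right) (h3.trans (zero_smul _ _).symm)
    rw [← TopCat.Presheaf.germ_res_apply Y.presheaf (homOfLE (i₁.le.trans inf_le_left)) x hxW' a]
    exact (congrArg _ h4).trans (map_zero _)
  · obtain ⟨V, hV, m, rfl⟩ := TopCat.Presheaf.exists_germ_eq (F := L.presheaf) (x := x) v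
    have hW : x ∈ V ⊓ U := ⟨hV, hi⟩
    obtain ⟨d, hd⟩ := he.exists_coeff (inf_le_right : V ⊓ U ≤ U) (rs L inf_le_left m)
    refine ⟨Y.presheaf.germ _ x hW d, ?_⟩
    rw [← Groth.L20.ModStalk.germ_rs L (inf_le_left : V ⊓ U ≤ V) hW m, ← hd,
      Groth.L20.ModStalk.germ_smul, Groth.L20.ModStalk.germ_rs]
    rfl

/-- The jet condition, read in a frame at a maximal ideal of a chart. -/
theorem jets_chart [JacobsonSpace Y] {m : ℕ} (s : Fin m → (Coh.structureModule Y ⟶ L))
    (hjet : ∀ p : Y, IsClosed ({p} : Set Y) → ∀ l : ↥(L.presheaf.stalk p), ∃ c : Fin m → k,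
      (L.presheaf.germ ⊤ p trivial)
          (PicF2.secVal L (∑ i : Fin m, Formal.smulMod k (Coh.structureModule Y) (c i) ≫ s i) ⊤) - l ∈
        (IsLocalRing.maximalIdeal ↥(Y.presheaf.stalk p)) ^ 2 •
          (⊤ : Submodule ↥(Y.presheaf.stalk p) ↥(L.presheaf.stalk p)))
    (D : Y.affineOpens) {e : Γ(L, D.1)} (he : IsFrame L D.1 e) {a : Fin m → Γ(Y, D.1)}
    (ha : ∀ j, a j • e = rs L (le_top : D.1 ≤ ⊤) (secOf (s j))) (q : Ideal Γ(Y, D.1)) (hq : q.IsMaximal)
    (l : Γ(Y, D.1)) :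
    ∃ c : Fin m → k, (∑ j, Groth.L22.SchemeDim.sectHom k Y D.1 (c j) * a j) - l ∈ q ^ 2 := by
  let q' : PrimeSpectrum Γ(Y, D.1) := ⟨q, hq.isPrime⟩
  let p : Y := D.2.fromSpec q'
  have hpc : IsClosed ({p} : Set Y) := by
    have h : (q' : ↥(Spec Γ(Y, D.1))) ∈ closedPoints ↥(Spec Γ(Y, D.1)) := by
      show IsClosed ({q'} : Set (PrimeSpectrum Γ(Y, D.1)))
      exact (PrimeSpectrum.isClosed_singleton_iff_isMaximal q').2 hq
    rw [← D.2.fromSpec.isOpenEmbedding.preimage_closedPoints] at h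
    exact h
  have hpD : p ∈ D.1 := by
    rw [← SetLike.mem_coe, ← D.2.range_fromSpec]
    exact ⟨q', rfl⟩
  have hprime : D.2.primeIdealOf ⟨p, hpD⟩ = q' :=
    D.2.fromSpec.isOpenEmbedding.injective (D.2.fromSpec_primeIdealOf ⟨p, hpD⟩)
  obtain ⟨c, hc⟩ := hjet p hpc (L.presheaf.germ D.1 p hpD (l • e))
  refine ⟨c, ?_⟩
  set x : Γ(Y, D.1) := (∑ j, Groth.L22.SchemeDim.sectHom k Y D.1 (c j) * a j) - l with hx
  let Φ := LinearEquiv.ofBijective (LinearMap.toSpanSingleton (Y.presheaf.stalk p) (L.presheaf.stalk p)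
    (L.presheaf.germ D.1 p hpD e)) (bijective_germ he hpD)
  have h1 : Φ (Y.presheaf.germ D.1 p hpD x) ∈ (IsLocalRing.maximalIdeal ↥(Y.presheaf.stalk p)) ^ 2 •
      (⊤ : Submodule ↥(Y.presheaf.stalk p) ↥(L.presheaf.stalk p)) := by
    have e1 := coeff_member (k := k) s 0 (af := 0) (U := D.1) (e := e)
      (by simp [secOf]) ha c
    rw [zero_add, zero_add] at e1
    show Y.presheaf.germ D.1 p hpD x • L.presheaf.germ D.1 p hpD e ∈ _
    rw [← Groth.L20.ModStalk.germ_smul, hx, sub_smul, e1, map_sub, Groth.L20.ModStalk.germ_rs]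
    have e2 : (show Γ(L, ⊤) from PicF2.secVal L (∑ i : Fin m, Formal.smulMod k (Coh.structureModule Y) (c i) ≫ s i) ⊤) =
        secOf (∑ i : Fin m, Formal.smulMod k (Coh.structureModule Y) (c i) ≫ s i) :=
      (Groth.L22.ZeroScheme.secVal_eq _ ⊤).trans (rs_self L le_rfl _)
    rw [← e2]
    exact hc
  have h2 : Y.presheaf.germ D.1 p hpD x ∈ (IsLocalRing.maximalIdeal ↥(Y.presheaf.stalk p)) ^ 2 := by
    have := Submodule.mem_map_of_mem (f := Φ.symm.toLinearMap) h1
    rw [Submodule.map_smul'', LinearEquiv.coe_toLinearMap, Φ.symm_apply_apply] at this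
    have := Submodule.smul_mono le_rfl le_top this
    rwa [smul_eq_mul, Ideal.mul_top] at this
  letI := Y.presheaf.algebra_section_stalk ⟨p, hpD⟩
  haveI hloc : IsLocalization.AtPrime (Y.presheaf.stalk p) (D.2.primeIdealOf ⟨p, hpD⟩).asIdeal :=
    D.2.isLocalization_stalk ⟨p, hpD⟩
  rw [← IsLocalization.AtPrime.map_eq_maximalIdeal (D.2.primeIdealOf ⟨p, hpD⟩).asIdeal
    (Y.presheaf.stalk p), ← Ideal.map_pow] at h2
  obtain ⟨t, ht, htx⟩ := (IsLocalization.algebraMap_mem_map_algebraMap_iff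
    (D.2.primeIdealOf ⟨p, hpD⟩).asIdeal.primeCompl (Y.presheaf.stalk p) _ x).1 h2
  rw [hprime] at ht htx
  exact mem_sq_of_mul_mem ht htx

end Groth.L24.Bertini
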