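import Groth.Agent.L24.Bertini.Jets
import Groth.Agent.L24.Bertini.Scheme

/-!
# Bertini for linear systems separating first order jets
-/

set_option autoImplicit false
set_option linter.style.haveILetI false
set_option backward.isDefEq.respectTransparency false
set_option backward.isDefEq.respectTransparency.types false

universe u

open CategoryTheory CategoryTheory.Limits AlgebraicGeometry TopologicalSpace Opposite MvPolynomial

noncomputable section

namespace Groth.L24.Bertini

open Groth.L18.Frame (rs rs_self IsFrame)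
open Groth.L18.GenLoc (secOf)

variable {k : Type u} [Field k] {Y : Scheme.{u}} [Y.Over (Spec (CommRingCat.of k))]
  [Smooth (Y ↘ Spec (CommRingCat.of k))] [QuasiCompact (Y ↘ Spec (CommRingCat.of k))] {L : Y.Modules}

/-- Reduce a Bertini statement to its charts. -/
theorem exists_poly_of_charts (hL : PicF.IsInvertible L) {m : ℕ} (s : Fin m → (Coh.structureModule Y ⟶ L))
    (f : Coh.structureModule Y ⟶ L)
    (hchart : ∀ (D : Y.affineOpens) (e : Γ(L, D.1)) (n : ℕ) (af : Γ(Y, D.1)) (a : Fin m → Γ(Y, D.1)),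
      Nonempty D.1 → IsFrame L D.1 e → af • e = rs L (le_top : D.1 ≤ ⊤) (secOf f) →
      (∀ j, a j • e = rs L (le_top : D.1 ≤ ⊤) (secOf (s j))) →
      letI : Algebra k Γ(Y, D.1) := (Groth.L22.SchemeDim.sectHom k Y D.1).toAlgebra
      Algebra.IsStandardSmoothOfRelativeDimension n k Γ(Y, D.1) →
      ∃ P : MvPolynomial (Fin m) k, P ≠ 0 ∧ ∀ c : Fin m → k, eval c P ≠ 0 →
        Algebra.Smooth k (Γ(Y, D.1) ⧸ Ideal.span {af + ∑ j, Groth.L22.SchemeDim.sectHom k Y D.1 (c j) * a j})) :
    ∃ q : MvPolynomial (Fin m) k, q ≠ 0 ∧ ∀ c : Fin m → k, eval c q ≠ 0 →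
      Smooth ((PicF2.zeroScheme L (f + ∑ i : Fin m, Formal.smulMod k (Coh.structureModule Y) (c i) ≫ s i)).subschemeι ≫
        (Y ↘ Spec (CommRingCat.of k))) := by
  classical
  haveI : CompactSpace Y := QuasiCompact.compactSpace_of_compactSpace (Y ↘ Spec (CommRingCat.of k))
  choose D e n hyD he hst using exists_smooth_frame (k := k) hL
  obtain ⟨T, hT⟩ := isCompact_univ.elim_finite_subcover (fun y => ((D y).1 : Set Y))
    (fun y => (D y).1.2) (fun y _ => Set.mem_iUnion.2 ⟨y, hyD y⟩)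
  choose af haf using fun y => (he y).exists_coeff le_rfl (rs L (le_top : (D y).1 ≤ ⊤) (secOf f))
  choose a ha using fun y j => (he y).exists_coeff le_rfl (rs L (le_top : (D y).1 ≤ ⊤) (secOf (s j)))
  simp only [rs_self] at haf ha
  choose P hP0 hP using fun y => hchart (D y) (e y) (n y) (af y) (a y) ⟨⟨y, hyD y⟩⟩ (he y) (haf y) (ha y) (hst y)
  refine ⟨∏ y ∈ T, P y, Finset.prod_ne_zero_iff.2 fun y _ => hP0 y, fun c hc => ?_⟩
  rw [map_prod, Finset.prod_ne_zero_iff] at hc
  refine smooth_zeroScheme hL _ (fun y : T => D y.1) (fun z => ?_) (fun y => e y.1) (fun y => he y.1)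
    (fun y => af y.1 + ∑ j, Groth.L22.SchemeDim.sectHom k Y (D y.1).1 (c j) * a y.1 j)
    (fun y => coeff_member s f (haf y.1) (ha y.1) c) fun y => hP y.1 c (hc y.1 y.2)
  obtain ⟨y, hy, hz⟩ := Set.mem_iUnion₂.1 (hT (Set.mem_univ z))
  exact ⟨⟨y, hy⟩, hz⟩

/-- Bertini for a linear system separating first order jets at closed points. -/
theorem exists_poly_smooth_of_jets [IsAlgClosed k] (hL : PicF.IsInvertible L) {m : ℕ}
    (s : Fin m → (Coh.structureModule Y ⟶ L)) (f : Coh.structureModule Y ⟶ L)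
    (hjet : ∀ p : Y, IsClosed ({p} : Set Y) → ∀ l : ↥(L.presheaf.stalk p), ∃ c : Fin m → k,
      (L.presheaf.germ ⊤ p trivial)
          (PicF2.secVal L (∑ i : Fin m, Formal.smulMod k (Coh.structureModule Y) (c i) ≫ s i) ⊤) - l ∈
        (IsLocalRing.maximalIdeal ↥(Y.presheaf.stalk p)) ^ 2 •
          (⊤ : Submodule ↥(Y.presheaf.stalk p) ↥(L.presheaf.stalk p))) :
    ∃ q : MvPolynomial (Fin m) k, q ≠ 0 ∧ ∀ c : Fin m → k, eval c q ≠ 0 →
      Smooth ((PicF2.zeroScheme L (f + ∑ i : Fin m, Formal.smulMod k (Coh.structureModule Y) (c i) ≫ s i)).subschemeι ≫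
        (Y ↘ Spec (CommRingCat.of k))) := by
  haveI := LocallyOfFiniteType.jacobsonSpace (Y ↘ Spec (CommRingCat.of k))
  refine exists_poly_of_charts hL s f fun D e n af a hne he haf ha => ?_
  letI : Algebra k Γ(Y, D.1) := (Groth.L22.SchemeDim.sectHom k Y D.1).toAlgebra
  intro hst
  haveI := hst
  haveI := hne
  haveI : Algebra.FiniteType k Γ(Y, D.1) :=
    RingHom.finiteType_algebraMap.1 (Groth.L22.SchemeDim.finiteType_sectHom k Y D.2)
  exact exists_poly_jets n m af a fun q hq l => jets_chart s hjet D he ha q hq l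

end Groth.L24.Bertini
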