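import Groth.Agent.L24.Kleiman.Main
import Groth.Agent.L24.Bertini.Main
import Mathlib.RingTheory.Smooth.Basic

/-!
# Bertini for base point free linear systems in characteristic zero
-/

set_option autoImplicit false
set_option linter.style.haveILetI false
set_option backward.isDefEq.respectTransparency.types false

universe u

open CategoryTheory CategoryTheory.Limits AlgebraicGeometry MvPolynomial TensorProduct

noncomputable section

namespace Groth.L24.Bertini

variable {k : Type u} [Field k]

/-- A hypersurface is smooth where the equation and one derivation of it generate the unit ideal. -/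
theorem smooth_quotient_derivation {A : Type u} [CommRing A] [Algebra k A] [Algebra.Smooth k A] (h r : A)
    (δ : Derivation k A A) (hδ : r * h + δ h = 1) : Algebra.Smooth k (A ⧸ Ideal.span {h}) := by
  classical
  haveI : Algebra.FinitePresentation k (A ⧸ Ideal.span {h}) :=
    Algebra.FinitePresentation.quotient (Submodule.fg_span_singleton h)
  suffices Algebra.FormallySmooth k (A ⧸ Ideal.span {h}) from ⟨this, inferInstance⟩
  refine (Algebra.FormallySmooth.iff_split_injection (R := k) (P := A) (A := A ⧸ Ideal.span {h})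
    Ideal.Quotient.mk_surjective).2 ?_
  let I := RingHom.ker (algebraMap A (A ⧸ Ideal.span {h}))
  have hI : I = Ideal.span {h} := Ideal.mk_ker
  have hh : h ∈ I := hI.symm ▸ Ideal.mem_span_singleton_self h
  let h₀ : I.Cotangent := Ideal.toCotangent I ⟨h, hh⟩
  have hh₀ : h • h₀ = 0 := by
    rw [← map_smul, Ideal.toCotangent_eq_zero]
    simpa [pow_two] using Ideal.mul_mem_mul hh hh
  let φ : Ω[A⁄k] →ₗ[A] I.Cotangent := (LinearMap.toSpanSingleton A I.Cotangent h₀).comp δ.liftKaehlerDifferential
  let ψ : (A ⧸ Ideal.span {h}) ⊗[A] Ω[A⁄k] →ₗ[A] I.Cotangent :=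
    TensorProduct.lift (Submodule.liftQ (Ideal.span {h}) ((LinearMap.lsmul A (Ω[A⁄k] →ₗ[A] I.Cotangent)).flip φ)
      (Ideal.span_le.2 (by
        rintro x rfl
        refine LinearMap.mem_ker.2 (LinearMap.ext fun ω => ?_)
        simp only [LinearMap.flip_apply, LinearMap.lsmul_apply, LinearMap.smul_apply, φ, LinearMap.comp_apply,
          LinearMap.toSpanSingleton_apply, LinearMap.zero_apply]
        rw [smul_comm, hh₀, smul_zero])))
  refine ⟨ψ, LinearMap.ext fun z => ?_⟩
  obtain ⟨⟨y, hy⟩, rfl⟩ := Ideal.toCotangent_surjective _ z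
  obtain ⟨x, rfl⟩ := Ideal.mem_span_singleton'.1 (hI ▸ hy : y ∈ Ideal.span {h})
  rw [LinearMap.comp_apply, KaehlerDifferential.kerCotangentToTensor_toCotangent, LinearMap.id_apply]
  show ((1 : A) • φ) (KaehlerDifferential.D k A (x * h)) = _
  rw [one_smul]
  simp only [φ, LinearMap.comp_apply, Derivation.liftKaehlerDifferential_comp_D, LinearMap.toSpanSingleton_apply]
  have h1 : δ h • h₀ = h₀ := by
    conv_rhs => rw [← one_smul A h₀, ← hδ, add_smul, mul_smul, hh₀, smul_zero, zero_add]
  rw [Derivation.leibniz, smul_eq_mul, smul_eq_mul, add_smul, mul_smul, h1, mul_smul, smul_comm, hh₀, smul_zero,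
    add_zero, ← map_smul]
  rfl

variable [IsAlgClosed k] [CharZero k]

/-- Bertini on a chart for a base point free linear system. -/
theorem exists_poly_generated {A : Type u} [CommRing A] [Algebra k A] [Algebra.Smooth k A] {N : ℕ}
    (a : Fin N → A) (hgen : Ideal.span (Set.range a) = ⊤) :
    ∃ P : MvPolynomial (Fin N) k, P ≠ 0 ∧ ∀ c : Fin N → k, eval c P ≠ 0 →
      Algebra.Smooth k (A ⧸ Ideal.span {∑ j, algebraMap k A (c j) * a j}) := by
  classical
  let H : (MvPolynomial (Fin N) A) := ∑ j, C (a j) * X j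
  haveI : Algebra.FormallySmooth k (MvPolynomial (Fin N) A) := Algebra.FormallySmooth.comp k A (MvPolynomial (Fin N) A)
  haveI : Algebra.FinitePresentation k (MvPolynomial (Fin N) A) := Algebra.FinitePresentation.trans k A (MvPolynomial (Fin N) A)
  haveI : Algebra.Smooth k (MvPolynomial (Fin N) A) := ⟨inferInstance, inferInstance⟩
  obtain ⟨b, hb⟩ := (Ideal.mem_span_range_iff_exists_fun).1 ((Ideal.eq_top_iff_one _).1 hgen)
  let δ : Derivation k (MvPolynomial (Fin N) A) (MvPolynomial (Fin N) A) := ∑ j, (C (b j) : (MvPolynomial (Fin N) A)) • ((pderiv j : Derivation A (MvPolynomial (Fin N) A) (MvPolynomial (Fin N) A)).restrictScalars k)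
  have hδ : 0 * H + δ H = 1 := by
    rw [zero_mul, zero_add]
    have e : ∀ j, pderiv j H = C (a j) := fun j => by
      rw [map_sum]
      simp [Pi.single_apply, mul_comm]
    calc δ H = ∑ j, C (b j) * pderiv j H := by
          simp [δ, ← Derivation.coeFnAddMonoidHom_apply, map_sum]
          rfl
      _ = C (∑ j, b j * a j) := by simp [e, map_sum]
      _ = 1 := by rw [hb, map_one]
  let Z := (MvPolynomial (Fin N) A) ⧸ Ideal.span {H}
  haveI : Algebra.Smooth k Z := smooth_quotient_derivation H 0 δ hδ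
  let θ : MvPolynomial (Fin N) k →ₐ[k] Z := (Ideal.Quotient.mkₐ k _).comp (aeval X)
  let qW : Spec (CommRingCat.of Z) ⟶ Spec (CommRingCat.of k) := Spec.map (CommRingCat.ofHom (algebraMap k Z))
  let qG : Spec (CommRingCat.of (MvPolynomial (Fin N) k)) ⟶ Spec (CommRingCat.of k) :=
    Spec.map (CommRingCat.ofHom (algebraMap k (MvPolynomial (Fin N) k)))
  let p : Spec (CommRingCat.of Z) ⟶ Spec (CommRingCat.of (MvPolynomial (Fin N) k)) :=
    Spec.map (CommRingCat.ofHom θ.toRingHom)
  haveI : Smooth qW := (HasRingHomProperty.Spec_iff (P := @Smooth)).2 (RingHom.smooth_algebraMap.mpr inferInstance)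
  haveI : LocallyOfFiniteType qG :=
    (HasRingHomProperty.Spec_iff (P := @LocallyOfFiniteType)).2 (RingHom.finiteType_algebraMap.mpr inferInstance)
  obtain ⟨V, ⟨v, hv⟩, hV⟩ := Groth.L24.Kleiman.exists_smooth_over qW qG p (by
    rw [← Spec.map_comp]
    congr 1
    exact CommRingCat.hom_ext θ.comp_algebraMap)
  haveI := hV
  obtain ⟨_, ⟨P, rfl⟩, hvP, hPV⟩ :=
    PrimeSpectrum.isTopologicalBasis_basic_opens.exists_subset_of_mem_open hv V.2
  refine ⟨P, fun h0 => hvP (by rw [h0]; exact zero_mem _), fun c hc => ?_⟩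
  let Z' := Localization.Away (θ P)
  let j : Spec (CommRingCat.of Z') ⟶ Spec (CommRingCat.of Z) := Spec.map (CommRingCat.ofHom (algebraMap Z Z'))
  haveI : IsOpenImmersion j := IsOpenImmersion.of_isLocalization (θ P)
  have hj : Set.range j ⊆ Set.range (p ⁻¹ᵁ V).ι := by
    rw [Scheme.Opens.range_ι, show Set.range j = (PrimeSpectrum.basicOpen (θ P) : Set (PrimeSpectrum Z)) from
      PrimeSpectrum.localization_away_comap_range Z' (θ P)]
    exact fun z hz => hPV hz
  let j' := IsOpenImmersion.lift (p ⁻¹ᵁ V).ι j hj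
  haveI : IsOpenImmersion j' :=
    haveI : IsOpenImmersion (j' ≫ (p ⁻¹ᵁ V).ι) := by rw [IsOpenImmersion.lift_fac]; infer_instance
    IsOpenImmersion.of_comp j' (p ⁻¹ᵁ V).ι
  letI algZ : Algebra (MvPolynomial (Fin N) k) Z' := ((algebraMap Z Z').comp θ.toRingHom).toAlgebra
  have hs : Smooth (j ≫ p) := by
    rw [← IsOpenImmersion.lift_fac (p ⁻¹ᵁ V).ι j hj, Category.assoc]
    infer_instance
  rw [← Spec.map_comp, HasRingHomProperty.Spec_iff (P := @Smooth)] at hs
  haveI : Algebra.Smooth (MvPolynomial (Fin N) k) Z' := RingHom.smooth_algebraMap.mp hs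
  set h := ∑ j, algebraMap k A (c j) * a j with hh
  let B := A ⧸ Ideal.span {h}
  haveI : Algebra.FinitePresentation k B :=
    Algebra.FinitePresentation.quotient (Submodule.fg_span_singleton h)
  suffices Algebra.FormallySmooth k B from ⟨this, inferInstance⟩
  -- the specialisation map
  let π₀ : (MvPolynomial (Fin N) A) →ₐ[k] B := (Ideal.Quotient.mkₐ k _).comp
    ((aeval fun j => algebraMap k A (c j)).restrictScalars k)
  have hπH : π₀ H = 0 := by
    refine Ideal.Quotient.eq_zero_iff_mem.2 (Ideal.mem_span_singleton.2 ⟨1, ?_⟩)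
    simp [H, hh, mul_comm]
  let π : Z →ₐ[k] B := Ideal.Quotient.liftₐ _ π₀ fun x hx => by
    obtain ⟨y, rfl⟩ := Ideal.mem_span_singleton'.1 hx
    rw [map_mul, hπH, mul_zero]
  have hπmk : ∀ x, π (Ideal.Quotient.mk (Ideal.span {H}) x) = π₀ x := fun x => rfl
  have hπθ : ∀ Q, π (θ Q) = algebraMap k B (eval c Q) := fun Q => by
    have e : π.comp θ = (Algebra.ofId k B).comp (aeval c) := by
      refine MvPolynomial.algHom_ext fun j => ?_
      show π (Ideal.Quotient.mk (Ideal.span {H}) (aeval (X : Fin N → MvPolynomial (Fin N) A) (X j))) = algebraMap k B (aeval c (X j))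
      rw [aeval_X, aeval_X, hπmk]
      show Ideal.Quotient.mk (Ideal.span {h}) (aeval (fun j => algebraMap k A (c j)) (X j)) = _
      rw [aeval_X]
      rfl
    exact AlgHom.congr_fun e Q
  have hu : IsUnit (π (θ P)) := by
    rw [hπθ]; exact (isUnit_iff_ne_zero.2 hc).map _
  let φ : Z' →+* B := IsLocalization.Away.lift (θ P) (g := π.toRingHom) hu
  have hφ : ∀ z : Z, φ (algebraMap Z Z' z) = π z := fun z => IsLocalization.Away.lift_eq _ _ z
  refine Algebra.FormallySmooth.of_comp_surjective fun T _ _ I hI g => ?_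
  letI algT : Algebra (MvPolynomial (Fin N) k) T := ((algebraMap k T).comp (eval c)).toAlgebra
  let gφ : Z' →ₐ[MvPolynomial (Fin N) k] T ⧸ I :=
    { (g.toRingHom.comp φ) with
      commutes' := fun Q => by
        show g (φ (algebraMap Z Z' (θ Q))) = algebraMap k (T ⧸ I) (eval c Q)
        rw [hφ, hπθ, g.commutes] }
  obtain ⟨l, hl⟩ := Algebra.FormallySmooth.exists_lift I ⟨2, hI⟩ gφ
  let lA : A →ₐ[k] T :=
    { (l.toRingHom.comp ((algebraMap Z Z').comp ((Ideal.Quotient.mk (Ideal.span {H})).comp C))) with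
      commutes' := fun r => by
        have e := l.commutes (MvPolynomial.C r)
        have e1 : algebraMap (MvPolynomial (Fin N) k) Z' (MvPolynomial.C r) =
            algebraMap Z Z' (Ideal.Quotient.mk (Ideal.span {H}) (MvPolynomial.C (algebraMap k A r))) := by
          show algebraMap Z Z' (θ (MvPolynomial.C r)) = _
          simp [θ, MvPolynomial.algebraMap_apply]
          rfl
        rw [e1] at e
        exact e.trans (by show algebraMap k T (eval c (MvPolynomial.C r)) = _; rw [eval_C]) }
  have hlh : lA h = 0 := by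
    have hX : ∀ j, l (algebraMap Z Z' (Ideal.Quotient.mk (Ideal.span {H}) (X j))) = algebraMap k T (c j) := fun j => by
      have e := l.commutes (X j)
      rw [show algebraMap (MvPolynomial (Fin N) k) Z' (X j) =
        algebraMap Z Z' (Ideal.Quotient.mk (Ideal.span {H}) (X j)) by show algebraMap Z Z' (θ (X j)) = _; simp [θ]] at e
      exact e.trans (by show algebraMap k T (eval c (X j)) = _; rw [eval_X])
    have h0 : l (algebraMap Z Z' (Ideal.Quotient.mk (Ideal.span {H}) H)) = 0 := by
      rw [Ideal.Quotient.eq_zero_iff_mem.2 (Ideal.mem_span_singleton_self H), map_zero, map_zero]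
    rw [show Ideal.Quotient.mk (Ideal.span {H}) H = ∑ j, Ideal.Quotient.mk (Ideal.span {H}) (C (a j)) *
      Ideal.Quotient.mk (Ideal.span {H}) (X j) by simp [H]] at h0
    simp only [map_sum, map_mul, hX] at h0
    rw [hh, map_sum, ← h0]
    refine Finset.sum_congr rfl fun j _ => ?_
    rw [map_mul, lA.commutes, mul_comm]
    rfl
  refine ⟨Ideal.Quotient.liftₐ _ lA fun x hx => ?_, Ideal.Quotient.algHom_ext _ (AlgHom.ext fun x => ?_)⟩
  · obtain ⟨y, rfl⟩ := Ideal.mem_span_singleton'.1 hx
    rw [map_mul, hlh, mul_zero]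
  · have e := AlgHom.congr_fun hl (algebraMap Z Z' (Ideal.Quotient.mk (Ideal.span {H}) (C x)))
    refine e.trans ?_
    show g (φ _) = g _
    rw [hφ]
    congr 1
    rw [hπmk]
    show Ideal.Quotient.mk (Ideal.span {h}) (aeval (fun j => algebraMap k A (c j)) (MvPolynomial.C x)) = _
    rw [aeval_C]
    rfl

end Groth.L24.Bertini
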