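import Groth.Agent.L03.GeneralVector
import Mathlib.RingTheory.Unramified.LocalStructure
import Mathlib.RingTheory.Etale.Basic
import Mathlib.RingTheory.Smooth.StandardSmoothCotangent
import Mathlib.RingTheory.Smooth.StandardSmoothOfFree
import Mathlib.RingTheory.Smooth.Basic
import Mathlib.RingTheory.Nakayama
import Mathlib.RingTheory.RingHom.StandardSmooth

/-!
# Bertini for linear systems separating first order jets
-/

set_option autoImplicit false
set_option linter.style.haveILetI false

universe u

open MvPolynomial TensorProduct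

namespace Groth.L24.Bertini

variable {k : Type u} [Field k] {A : Type u} [CommRing A] [Algebra k A]

theorem ringKrullDim_le (n : ℕ) [Algebra.IsStandardSmoothOfRelativeDimension n k A] :
    ringKrullDim A ≤ n := by
  obtain ⟨g, hg⟩ := Algebra.IsStandardSmoothOfRelativeDimension.exists_etale_mvPolynomial n k A
  letI := g.toRingHom.toAlgebra
  haveI : Algebra.Etale (MvPolynomial (Fin n) k) A := hg
  refine (Order.krullDim_le_of_strictMono (PrimeSpectrum.comap (algebraMap (MvPolynomial (Fin n) k) A))
    fun P Q hPQ => ?_).trans (le_of_eq ?_)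
  · refine lt_of_le_of_ne (Ideal.comap_mono hPQ.le) fun h => hPQ.ne (PrimeSpectrum.ext ?_)
    exact Algebra.QuasiFinite.eq_of_le_of_under_eq (R := MvPolynomial (Fin n) k) P.asIdeal Q.asIdeal hPQ.le
      (congrArg PrimeSpectrum.asIdeal h)
  · show ringKrullDim (MvPolynomial (Fin n) k) = _
    rw [MvPolynomial.ringKrullDim_of_isNoetherianRing, ringKrullDim_eq_zero_of_field, zero_add, Nat.card_fin]

/-- A hypersurface is smooth where the equation and its derivatives generate the unit ideal. -/
theorem smooth_quotient [Algebra.Smooth k A] {ι : Type*} [Fintype ι] (b : Module.Basis ι A Ω[A⁄k]) (h : A)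
    (r : A) (w : ι → A) (hw : r * h + ∑ i, w i * b.repr (KaehlerDifferential.D k A h) i = 1) :
    Algebra.Smooth k (A ⧸ Ideal.span {h}) := by
  classical
  haveI : Algebra.FinitePresentation k (A ⧸ Ideal.span {h}) :=
    Algebra.FinitePresentation.quotient (Submodule.fg_span_singleton h)
  suffices Algebra.FormallySmooth k (A ⧸ Ideal.span {h}) from ⟨this, inferInstance⟩
  refine (Algebra.FormallySmooth.iff_split_injection (R := k) (P := A) (A := A ⧸ Ideal.span {h})
    Ideal.Quotient.mk_surjective).2 ?_
  let I := RingHom.ker (algebraMap A (A ⧸ Ideal.span {h}))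
  have hI : I = Ideal.span {h} := Ideal.mk_ker
  have hh : h ∈ I := hI.symm ▸ Ideal.mem_span_singleton_self h
  let h₀ : I.Cotangent := Ideal.toCotangent I ⟨h, hh⟩
  have hh₀ : h • h₀ = 0 := by
    rw [← map_smul, Ideal.toCotangent_eq_zero]
    simpa [pow_two] using Ideal.mul_mem_mul hh hh
  let φ : Ω[A⁄k] →ₗ[A] I.Cotangent :=
    b.constr A fun i => w i • h₀
  let ψ : (A ⧸ Ideal.span {h}) ⊗[A] Ω[A⁄k] →ₗ[A] I.Cotangent :=
    TensorProduct.lift (Submodule.liftQ (Ideal.span {h}) ((LinearMap.lsmul A (Ω[A⁄k] →ₗ[A] I.Cotangent)).flip φ)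
      (Ideal.span_le.2 (by
        rintro x rfl
        refine LinearMap.mem_ker.2 (b.ext fun i => ?_)
        simp only [LinearMap.flip_apply, LinearMap.lsmul_apply, LinearMap.smul_apply, φ, Module.Basis.constr_basis,
          LinearMap.zero_apply]
        rw [smul_comm, hh₀, smul_zero])))
  refine ⟨ψ, LinearMap.ext fun z => ?_⟩
  obtain ⟨⟨y, hy⟩, rfl⟩ := Ideal.toCotangent_surjective _ z
  obtain ⟨x, rfl⟩ := Ideal.mem_span_singleton'.1 (hI ▸ hy : y ∈ Ideal.span {h})
  rw [LinearMap.comp_apply, KaehlerDifferential.kerCotangentToTensor_toCotangent, LinearMap.id_apply]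
  show ((1 : A) • φ) (KaehlerDifferential.D k A (x * h)) = _
  rw [one_smul, Derivation.leibniz, map_add, map_smul, map_smul]
  have hk : ∀ ω, h • φ ω = 0 := fun ω => by
    rw [show φ ω = ∑ i, b.repr ω i • w i • h₀ from Module.Basis.constr_apply_fintype _ _ _ _, Finset.smul_sum]
    exact Finset.sum_eq_zero fun i _ => by rw [smul_comm, smul_comm h, hh₀, smul_zero, smul_zero]
  rw [hk, add_zero, show φ (KaehlerDifferential.D k A h) = (1 : A) • h₀ from ?_, one_smul, ← map_smul]
  · rfl
  · rw [← hw, add_smul, mul_smul, hh₀, smul_zero, zero_add, Finset.sum_smul,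
      show φ _ = ∑ i, b.repr _ i • w i • h₀ from Module.Basis.constr_apply_fintype _ _ _ _]
    exact Finset.sum_congr rfl fun i _ => by rw [smul_smul, mul_comm]

theorem linear_eq_top_of_forall_maximal {n : ℕ} (N : Submodule A (Fin n → A))
    (h : ∀ q : Ideal A, q.IsMaximal → N ⊔ q • ⊤ = ⊤) : N = ⊤ := by
  by_contra hN
  let C := (Fin n → A) ⧸ N
  have key : ∀ q : Ideal A, q.IsMaximal → ¬ Module.annihilator A C ≤ q := by
    intro q hq hle
    have hC : (⊤ : Submodule A C) ≤ q • ⊤ := by
      have := congrArg (Submodule.map N.mkQ) (h q hq)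
      rw [Submodule.map_sup, Submodule.map_smul'', Submodule.map_top, Submodule.range_mkQ,
        show Submodule.map N.mkQ N = ⊥ by rw [← le_bot_iff, Submodule.map_le_iff_le_comap, Submodule.comap_bot,
          Submodule.ker_mkQ], bot_sup_eq] at this
      exact this.ge
    obtain ⟨r, hr, hr'⟩ := Submodule.exists_sub_one_mem_and_smul_eq_zero_of_fg_of_le_smul q ⊤ Module.Finite.fg_top hC
    refine hq.ne_top ((Ideal.eq_top_iff_one _).2 ?_)
    have : r ∈ q := hle (Module.mem_annihilator.2 fun x => hr' x trivial)
    simpa using q.sub_mem this hr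
  have h1 : Module.annihilator A C = ⊤ := by
    by_contra hne
    obtain ⟨q, hq, hle⟩ := Ideal.exists_le_maximal _ hne
    exact key q hq hle
  refine hN (eq_top_iff.2 fun x _ => (Submodule.Quotient.mk_eq_zero N).1 ?_)
  have := Module.mem_annihilator.1 ((Ideal.eq_top_iff_one _).1 h1) (Submodule.Quotient.mk x)
  rwa [one_smul] at this

variable [IsAlgClosed k] [Algebra.FiniteType k A]

/-- Bertini for a linear system separating first order jets, on a chart. -/
theorem exists_poly_jets (n m : ℕ) [Algebra.IsStandardSmoothOfRelativeDimension n k A] [Nontrivial A]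
    (f : A) (a : Fin m → A)
    (hjet : ∀ q : Ideal A, q.IsMaximal → ∀ l : A, ∃ c : Fin m → k,
      (∑ j, algebraMap k A (c j) * a j) - l ∈ q ^ 2) :
    ∃ P : MvPolynomial (Fin m) k, P ≠ 0 ∧ ∀ c : Fin m → k, eval c P ≠ 0 →
      Algebra.Smooth k (A ⧸ Ideal.span {f + ∑ j, algebraMap k A (c j) * a j}) := by
  classical
  haveI : Algebra.IsStandardSmooth k A := Algebra.IsStandardSmoothOfRelativeDimension.isStandardSmooth n
  let b : Module.Basis (Fin n) A Ω[A⁄k] := Module.finBasisOfFinrankEq A _
    (Module.finrank_eq_of_rank_eq (Algebra.IsStandardSmoothOfRelativeDimension.rank_kaehlerDifferential n))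
  let vec : A →ₗ[k] (Fin (n + 1) → A) :=
    { toFun := fun x => Fin.cons x fun i => b.repr (KaehlerDifferential.D k A x) i
      map_add' := fun x y => by
        ext i
        induction i using Fin.cases <;> simp
      map_smul' := fun c x => by
        ext i
        induction i using Fin.cases with
        | zero => simp
        | succ i =>
          simp only [Fin.cons_succ, Pi.smul_apply, RingHom.id_apply]
          rw [Derivation.map_smul, ← IsScalarTower.algebraMap_smul A c (KaehlerDifferential.D k A x), map_smul]
          simp [Algebra.smul_def] }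
  let T : (Fin m → A) →ₗ[A] (Fin (n + 1) → A) := Fintype.linearCombination A fun j => vec (a j)
  have hT : LinearMap.range T = ⊤ := by
    refine linear_eq_top_of_forall_maximal _ fun q hq => ?_
    set R := LinearMap.range T ⊔ q • ⊤
    have hq2 : ∀ x ∈ q ^ 2, vec x ∈ R := by
      intro x hx
      refine Submodule.mem_sup_right ?_
      rw [pow_two, ← smul_eq_mul] at hx
      refine Submodule.smul_induction_on hx (fun u hu v hv => ?_) fun u v hu hv => by
        rw [map_add]; exact add_mem hu hv
      have : vec (u • v) = u • vec v + v • (vec u - Pi.single 0 u) := by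
        ext i
        induction i using Fin.cases with
        | zero => simp [vec]
        | succ i => simp [vec, Derivation.leibniz, Pi.single_eq_of_ne (Fin.succ_ne_zero i)]
      rw [this]
      exact add_mem (Submodule.smul_mem_smul hu trivial) (Submodule.smul_mem_smul hv trivial)
    have hvec : ∀ l, vec l ∈ R := fun l => by
      obtain ⟨c, hc⟩ := hjet q hq l
      have h1 : vec (∑ j, algebraMap k A (c j) * a j) ∈ R := by
        refine Submodule.mem_sup_left ⟨fun j => algebraMap k A (c j), ?_⟩
        rw [Fintype.linearCombination_apply, map_sum]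
        exact Finset.sum_congr rfl fun j _ => by
          rw [← Algebra.smul_def, map_smul, IsScalarTower.algebraMap_smul]
      have := sub_mem h1 (hq2 _ hc)
      rwa [← map_sub, sub_sub_cancel] at this
    have he : Pi.single (M := fun _ => A) (0 : Fin (n + 1)) (1 : A) ∈ R := by
      convert hvec 1 using 1
      ext i
      induction i using Fin.cases with
      | zero => simp [vec]
      | succ i => simp [vec, Pi.single_eq_of_ne (Fin.succ_ne_zero i)]
    let φ : Ω[A⁄k] →ₗ[A] (Fin (n + 1) → A) :=
      { toFun := fun ω => Fin.cons 0 fun i => b.repr ω i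
        map_add' := fun x y => by ext i; induction i using Fin.cases <;> simp
        map_smul' := fun c x => by ext i; induction i using Fin.cases <;> simp }
    have hφ : (⊤ : Submodule A Ω[A⁄k]) ≤ R.comap φ := by
      rw [← KaehlerDifferential.span_range_derivation]
      refine Submodule.span_le.2 ?_
      rintro _ ⟨l, rfl⟩
      have : φ (KaehlerDifferential.D k A l) = vec l - l • Pi.single (0 : Fin (n + 1)) (1 : A) := by
        ext i
        induction i using Fin.cases with
        | zero => simp [φ, vec]
        | succ i => simp [φ, vec, Pi.single_eq_of_ne (Fin.succ_ne_zero i)]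
      show φ _ ∈ R
      rw [this]
      exact sub_mem (hvec l) (R.smul_mem _ he)
    refine eq_top_iff.2 fun y _ => ?_
    have hy : y = y 0 • Pi.single (0 : Fin (n + 1)) (1 : A) + φ (b.equivFun.symm fun i => y i.succ) := by
      ext i
      induction i using Fin.cases with
      | zero => simp [φ]
      | succ i => simp [φ, Pi.single_eq_of_ne (Fin.succ_ne_zero i), b.repr_sum_self, Finsupp.single_apply]
    rw [hy]
    exact add_mem (R.smul_mem _ he) (hφ (x := b.equivFun.symm fun i => y i.succ) trivial)
  choose s hs using fun l : Fin (n + 1) => (LinearMap.range_eq_top.1 hT) (Pi.single l 1)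
  let g : Fin (m + 1) → A := Fin.cons f a
  let M : Matrix (Fin (n + 1)) (Fin (m + 1)) A := Matrix.of fun i j => vec (g j) i
  let S : Matrix (Fin (m + 1)) (Fin (n + 1)) A :=
    Matrix.of fun j l => (Fin.cons 0 (s l) : Fin (m + 1) → A) j
  have hMS : M * S = 1 := by
    ext i l
    have := congrFun (hs l) i
    rw [Fintype.linearCombination_apply, Finset.sum_apply] at this
    rw [Matrix.mul_apply, Fin.sum_univ_succ, Matrix.one_apply]
    simp only [M, S, g, Matrix.of_apply, Fin.cons_zero, mul_zero, zero_add, Fin.cons_succ]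
    rw [Finset.sum_congr rfl fun j _ => mul_comm (vec (a j) i) (s l j)]
    simpa [Pi.single_apply] using this
  obtain ⟨F, hF0, hF⟩ := Groth.L03.GeneralVector.exists_poly (k := k) M S hMS (ringKrullDim_le (k := k) n) (Nat.lt_succ_self n)
  obtain ⟨v, hv⟩ := Groth.L03.GeneralVector.exists_eval_ne_zero {()} (fun _ => F * MvPolynomial.X 0)
    (fun _ _ => mul_ne_zero hF0 (MvPolynomial.X_ne_zero _))
  have hv' := hv () (Finset.mem_singleton_self _)
  rw [map_mul, eval_X, mul_ne_zero_iff] at hv'
  let P : MvPolynomial (Fin m) k := aeval (Fin.cons (C (v 0)) fun j => C (v 0) * X j) F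
  have hP : ∀ c : Fin m → k, eval c P = eval (Fin.cons (v 0) fun j => v 0 * c j) F := by
    intro c
    show eval c (aeval _ F) = _
    rw [aeval_def, eval₂_comp_left, ← eval₂_id]
    congr 1
    · ext r; simp [MvPolynomial.algebraMap_eq]
    · ext j; induction j using Fin.cases <;> simp
  refine ⟨P, fun h0 => hv'.1 ?_, fun c hc => ?_⟩
  · have e := hP fun j => v j.succ / v 0
    rw [h0, map_zero] at e
    refine (congrArg (fun w => eval w F) (funext fun j => ?_)).trans e.symm
    induction j using Fin.cases with
    | zero => simp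
    | succ j => rw [Fin.cons_succ, mul_div_cancel₀ _ hv'.2]
  rw [hP] at hc
  have hgood := hF _ hc
  set h := f + ∑ j, algebraMap k A (c j) * a j with hh
  have hrow : ∀ i, (∑ j, algebraMap k A ((Fin.cons (v 0) fun j => v 0 * c j : Fin (m + 1) → k) j) * M i j) =
      algebraMap k A (v 0) * vec h i := by
    intro i
    have e : vec h = vec f + ∑ j, algebraMap k A (c j) • vec (a j) := by
      rw [hh, map_add, map_sum]
      congr 1
      exact Finset.sum_congr rfl fun j _ => by
        rw [← Algebra.smul_def, map_smul, IsScalarTower.algebraMap_smul]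
    rw [e, Fin.sum_univ_succ, Pi.add_apply, Finset.sum_apply, mul_add, Finset.mul_sum]
    simp [M, g, mul_assoc]
  simp only [hrow] at hgood
  have hspan : Ideal.span (Set.range (vec h)) = ⊤ := by
    refine eq_top_iff.2 (hgood ▸ Ideal.span_le.2 ?_)
    rintro _ ⟨i, rfl⟩
    exact Ideal.mul_mem_left _ _ (Ideal.subset_span ⟨i, rfl⟩)
  obtain ⟨w, hw⟩ := (Ideal.mem_span_range_iff_exists_fun).1 ((Ideal.eq_top_iff_one _).1 hspan)
  refine smooth_quotient b h (w 0) (fun i => w i.succ) ?_
  rw [← hw, Fin.sum_univ_succ]
  rfl

end Groth.L24.Bertini
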